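import Mathlib

/-!
A finite scheme over an affine open of a Noetherian scheme extends to a finite scheme over the whole scheme.
-/

set_option autoImplicit false
set_option backward.isDefEq.respectTransparency false
set_option backward.defeqAttrib.useBackward true
universe u

open CategoryTheory CategoryTheory.Limits AlgebraicGeometry TopologicalSpace Opposite

namespace Groth.Agent.FinExtend

variable {X Y : Scheme.{u}} (f : X ⟶ Y) (I : Y.IdealSheafData) (n : ℕ) {W0 : X.Opens}
  (s : Finset Γ(X, W0)) (hW0 : ∀ U : Y.Opens, f ⁻¹ᵁ U ≤ W0)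

/-- The additional generators over an affine open. -/
def gens (U : Y.affineOpens) : Set Γ(X, f ⁻¹ᵁ U.1) :=
  {x | ∃ i ∈ (I.ideal U) ^ n, ∃ c ∈ s, x = f.app U.1 i * X.presheaf.map (homOfLE (hW0 U.1)).op c}

/-- The subalgebra over an affine open. -/
noncomputable def adj (U : Y.affineOpens) :
    @Subalgebra Γ(Y, U.1) Γ(X, f ⁻¹ᵁ U.1) _ _ (f.app U.1).hom.toAlgebra :=
  letI := (f.app U.1).hom.toAlgebra
  Algebra.adjoin _ (gens f I n s hW0 U)

theorem adj_induction (U : Y.affineOpens) {P : Γ(X, f ⁻¹ᵁ U.1) → Prop}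
    (hg : ∀ x ∈ gens f I n s hW0 U, P x) (ha : ∀ r, P (f.app U.1 r))
    (hadd : ∀ x y, P x → P y → P (x + y)) (hmul : ∀ x y, P x → P y → P (x * y))
    {x : Γ(X, f ⁻¹ᵁ U.1)} (hx : x ∈ adj f I n s hW0 U) : P x := by
  letI := (f.app U.1).hom.toAlgebra
  exact Algebra.adjoin_induction (p := fun x _ => P x) hg ha (fun x y _ _ => hadd x y) (fun x y _ _ => hmul x y) hx

theorem app_res {U V : Y.Opens} (h : V ≤ U) (r : Γ(Y, U)) :
    X.presheaf.map (homOfLE (f.preimage_mono h)).op (f.app U r) = f.app V (Y.presheaf.map (homOfLE h).op r) :=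
  (congr($(f.naturality (homOfLE h).op) r)).symm

theorem res_mem {U V : Y.affineOpens} (h : V.1 ≤ U.1) {x : Γ(X, f ⁻¹ᵁ U.1)} (hx : x ∈ adj f I n s hW0 U) :
    X.presheaf.map (homOfLE (f.preimage_mono h)).op x ∈ adj f I n s hW0 V := by
  letI := (f.app V.1).hom.toAlgebra
  refine adj_induction f I n s hW0 U (P := fun x => X.presheaf.map (homOfLE (f.preimage_mono h)).op x ∈ adj f I n s hW0 V)
    ?_ ?_ (fun x y hx hy => by rw [map_add]; exact add_mem hx hy) (fun x y hx hy => by rw [map_mul]; exact mul_mem hx hy) hx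
  · rintro _ ⟨i, hi, c, hc, rfl⟩
    rw [map_mul]
    refine Algebra.subset_adjoin ⟨Y.presheaf.map (homOfLE h).op i, ?_, c, hc, ?_⟩
    · rw [← I.map_ideal h, ← Ideal.map_pow]
      exact Ideal.mem_map_of_mem _ hi
    · rw [app_res f h]
      exact congrArg _ (congr($(X.presheaf.map_comp _ _) c)).symm
  · intro r
    rw [app_res f h]
    exact Subalgebra.algebraMap_mem _ _

/-- The presheaf of subalgebras on the affine Zariski site. -/
noncomputable def diagram : Y.AffineZariskiSiteᵒᵖ ⥤ CommRingCat.{u} where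
  obj U := .of (adj f I n s hW0 U.unop)
  map {U V} i := CommRingCat.ofHom
    ((X.presheaf.map (homOfLE (f.preimage_mono (Scheme.AffineZariskiSite.toOpens_mono i.unop.le))).op).hom.restrict _ _
      fun x hx => res_mem f I n s hW0 (Scheme.AffineZariskiSite.toOpens_mono i.unop.le) hx)
  map_id U := by
    ext x
    show X.presheaf.map (homOfLE _).op x.1 = x.1
    simp
  map_comp {U V W} i j := by
    ext x
    show X.presheaf.map (homOfLE _).op x.1 = X.presheaf.map (homOfLE _).op (X.presheaf.map (homOfLE _).op x.1)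
    rw [← CommRingCat.comp_apply, ← X.presheaf.map_comp]
    rfl

/-- The structure map of the subalgebras. -/
noncomputable def diagramMap :
    (Scheme.AffineZariskiSite.toOpensFunctor Y).op ⋙ Y.presheaf ⟶ diagram f I n s hW0 where
  app U := CommRingCat.ofHom ((f.app U.unop.1).hom.codRestrict _ fun r => by
    letI := (f.app U.unop.1).hom.toAlgebra
    exact Subalgebra.algebraMap_mem (adj f I n s hW0 U.unop) r)
  naturality {U V} i := by
    ext x
    refine Subtype.ext ?_
    exact congr($(f.naturality (homOfLE (Scheme.AffineZariskiSite.toOpens_mono i.unop.le)).op) x)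

theorem loc_surj (U : Y.affineOpens) (r : Γ(Y, U.1)) {z : Γ(X, f ⁻¹ᵁ Y.basicOpen r)}
    (hz : z ∈ adj f I n s hW0 (Y.affineBasicOpen r)) :
    ∃ k : ℕ, ∃ a ∈ adj f I n s hW0 U,
      z * (X.presheaf.map (homOfLE (f.preimage_mono (Y.basicOpen_le r))).op (f.app U.1 r)) ^ k =
        X.presheaf.map (homOfLE (f.preimage_mono (Y.basicOpen_le r))).op a := by
  have hle : Y.basicOpen r ≤ U.1 := Y.basicOpen_le r
  haveI := U.2.isLocalization_basicOpen r
  have hnat := app_res f hle
  rw [hnat]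
  letI := (f.app U.1).hom.toAlgebra
  refine adj_induction f I n s hW0 (Y.affineBasicOpen r) (P := fun (z : Γ(X, f ⁻¹ᵁ Y.basicOpen r)) => ∃ k : ℕ, ∃ a ∈ adj f I n s hW0 U,
    z * (f.app (Y.basicOpen r) (Y.presheaf.map (homOfLE hle).op r)) ^ k =
        X.presheaf.map (homOfLE (f.preimage_mono hle)).op a) ?_ ?_ ?_ ?_ hz
  · rintro _ ⟨(i' : Γ(Y, Y.basicOpen r)), hi', c, hc, rfl⟩
    rw [← I.map_ideal (show Y.affineBasicOpen r ≤ U from hle),
      ← Ideal.map_pow] at hi'
    obtain ⟨⟨⟨i, hi⟩, ⟨_, k, rfl⟩⟩, e⟩ :=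
      (IsLocalization.mem_map_algebraMap_iff (Submonoid.powers r) Γ(Y, Y.basicOpen r)).1 hi'
    refine ⟨k, _, Algebra.subset_adjoin ⟨i, hi, c, hc, rfl⟩, ?_⟩
    show f.app (Y.basicOpen r) i' * X.presheaf.map (homOfLE (hW0 (Y.basicOpen r))).op c * _ = _
    rw [map_mul, hnat, mul_right_comm, ← map_pow, ← map_mul]
    refine congrArg₂ (· * ·) (congrArg _ ?_) (congr($(X.presheaf.map_comp _ _) c))
    rw [← map_pow]
    exact e
  · intro (b : Γ(Y, Y.basicOpen r))
    obtain ⟨k, a, e⟩ := IsLocalization.Away.surj r b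
    refine ⟨k, _, Subalgebra.algebraMap_mem _ a, ?_⟩
    show f.app (Y.basicOpen r) b * _ = X.presheaf.map _ (f.app U.1 a)
    rw [hnat, ← map_pow, ← map_mul]
    exact congrArg _ e
  · rintro x y ⟨k, a, ha, e⟩ ⟨l, b, hb, e'⟩
    refine ⟨k + l, a * f.app U.1 r ^ l + b * f.app U.1 r ^ k, add_mem (mul_mem ha (pow_mem (Subalgebra.algebraMap_mem _ r) _)) (mul_mem hb (pow_mem (Subalgebra.algebraMap_mem _ r) _)), ?_⟩
    rw [map_add, map_mul, map_mul, map_pow, map_pow, hnat, ← e, ← e', pow_add]; ring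
  · rintro x y ⟨k, a, ha, e⟩ ⟨l, b, hb, e'⟩
    refine ⟨k + l, a * b, mul_mem ha hb, ?_⟩
    rw [map_mul, ← e, ← e', pow_add]; ring

theorem loc_inj [QuasiCompact f] (U : Y.affineOpens) (r : Γ(Y, U.1)) {a b : Γ(X, f ⁻¹ᵁ U.1)}
    (e : X.presheaf.map (homOfLE (f.preimage_mono (Y.basicOpen_le r))).op a =
      X.presheaf.map (homOfLE (f.preimage_mono (Y.basicOpen_le r))).op b) :
    ∃ m : ℕ, f.app U.1 r ^ m * a = f.app U.1 r ^ m * b := by
  have e'' : X.presheaf.map (homOfLE (X.basicOpen_le (f.app U.1 r))).op (a - b) = 0 := by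
    have h1 := congrArg (X.presheaf.map (homOfLE (f.preimage_basicOpen r).ge).op) e
    rw [← CommRingCat.comp_apply, ← CommRingCat.comp_apply, ← X.presheaf.map_comp] at h1
    rw [map_sub, sub_eq_zero]; exact h1
  obtain ⟨m, hm⟩ := exists_pow_mul_eq_zero_of_res_basicOpen_eq_zero_of_isCompact X
    (f.isCompact_preimage U.2.isCompact) (a - b) (f.app U.1 r) e''
  exact ⟨m, sub_eq_zero.1 (by rw [← mul_sub]; exact hm)⟩

theorem coequifibered [QuasiCompact f] [QuasiSeparated f] : (diagramMap f I n s hW0).Coequifibered := by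
  refine Scheme.AffineZariskiSite.coequifibered_iff_forall_isLocalizationAway.mpr fun U r => ?_
  letI := ((diagram f I n s hW0).map (homOfLE (U.basicOpen_le r)).op).hom.toAlgebra
  have hle : Y.basicOpen r ≤ U.1 := Y.basicOpen_le r
  haveI := U.2.isLocalization_basicOpen r
  have hur : IsUnit (Y.presheaf.map (homOfLE hle).op r) :=
    IsLocalization.Away.algebraMap_isUnit (S := Γ(Y, Y.basicOpen r)) r
  have hnat : ∀ a, X.presheaf.map (homOfLE (f.preimage_mono hle)).op (f.app U.1 a) =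
      f.app (Y.basicOpen r) (Y.presheaf.map (homOfLE hle).op a) := fun a =>
    app_res f hle a
  refine IsLocalization.Away.mk (S := (diagram f I n s hW0).obj (.op (U.basicOpen r))) _ ?_ ?_ ?_
  · show IsUnit (((diagram f I n s hW0).map (homOfLE (U.basicOpen_le r)).op) ((diagramMap f I n s hW0).app (.op U) r))
    rw [← CommRingCat.comp_apply, ← (diagramMap f I n s hW0).naturality, CommRingCat.comp_apply]
    exact hur.map _
  · rintro ⟨z, hz⟩
    obtain ⟨k, a, ha, e⟩ := loc_surj f I n s hW0 ⟨U.1, U.2⟩ r (z := z) hz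
    exact ⟨k, ⟨a, ha⟩, Subtype.ext e⟩
  · rintro ⟨a, ha⟩ ⟨b, hb⟩ e
    obtain ⟨m, hm⟩ := loc_inj f ⟨U.1, U.2⟩ r (a := a) (b := b) (congrArg Subtype.val e)
    exact ⟨m, Subtype.ext hm⟩

theorem exists_pow_ideal_res [IsNoetherian Y] (U : Y.affineOpens) (W : Y.Opens) (hWU : W ≤ U.1)
    (hI : ∀ r ∈ I.ideal U, Y.basicOpen r ≤ W) (a : Γ(Y, W)) :
    ∃ m : ℕ, ∀ i ∈ (I.ideal U) ^ m,
      Y.presheaf.map (homOfLE hWU).op i * a ∈ (Y.presheaf.map (homOfLE hWU).op).hom.range := by
  let J : Ideal Γ(Y, U.1) :=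
    { carrier := {i | Y.presheaf.map (homOfLE hWU).op i * a ∈ (Y.presheaf.map (homOfLE hWU).op).hom.range}
      zero_mem' := by simp only [Set.mem_ofPred_eq, map_zero, zero_mul]; exact zero_mem _
      add_mem' := fun {x y} hx hy => by
        simp only [Set.mem_ofPred_eq, map_add, add_mul] at hx hy ⊢; exact add_mem hx hy
      smul_mem' := fun c x hx => by
        simp only [Set.mem_ofPred_eq, smul_eq_mul, map_mul, mul_assoc] at hx ⊢
        exact mul_mem ⟨c, rfl⟩ hx }
  haveI : IsNoetherianRing Γ(Y, U.1) := IsLocallyNoetherian.component_noetherian U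
  obtain ⟨m, hm⟩ : ∃ m, (I.ideal U) ^ m ≤ J := by
    refine Ideal.exists_pow_le_of_le_radical_of_fg (fun r hr => ?_) (IsNoetherian.noetherian _)
    haveI := U.2.isLocalization_basicOpen r
    obtain ⟨N, e, he⟩ := IsLocalization.Away.surj r (Y.presheaf.map (homOfLE (hI r hr)).op a)
    let d := Y.presheaf.map (homOfLE hWU).op r ^ N * a - Y.presheaf.map (homOfLE hWU).op e
    have hd : Y.presheaf.map (homOfLE (hI r hr)).op d = 0 := by
      rw [map_sub, map_mul, map_pow, ← CommRingCat.comp_apply, ← CommRingCat.comp_apply, ← Y.presheaf.map_comp,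
        sub_eq_zero, mul_comm]
      exact he
    have hd' : Y.presheaf.map (homOfLE (Y.basicOpen_le (Y.presheaf.map (homOfLE hWU).op r))).op d = 0 := by
      have hb : Y.basicOpen (Y.presheaf.map (homOfLE hWU).op r) ≤ Y.basicOpen r := by
        rw [Scheme.basicOpen_res]; exact inf_le_right
      have h1 := congrArg (Y.presheaf.map (homOfLE hb).op) hd
      rwa [map_zero, ← CommRingCat.comp_apply, ← Y.presheaf.map_comp] at h1
    obtain ⟨M, hM⟩ := exists_pow_mul_eq_zero_of_res_basicOpen_eq_zero_of_isCompact Y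
      (NoetherianSpace.isCompact _) d _ hd'
    refine ⟨M + N, r ^ M * e, ?_⟩
    rw [mul_sub, sub_eq_zero, ← mul_assoc, ← pow_add, ← map_pow, ← map_pow, ← map_mul] at hM
    exact hM.symm
  exact ⟨m, fun i hi => hm hi⟩

end Groth.Agent.FinExtend
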