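import Groth.Agent.FinExtend.Basic

set_option autoImplicit false
set_option backward.isDefEq.respectTransparency false
set_option backward.defeqAttrib.useBackward true
universe u

open CategoryTheory CategoryTheory.Limits AlgebraicGeometry TopologicalSpace Opposite

namespace Groth.Agent.FinExtend

variable {X Y : Scheme.{u}} (f : X ⟶ Y) [QuasiCompact f] [QuasiSeparated f] (I : Y.IdealSheafData) (n : ℕ)
  {W0 : X.Opens} (s : Finset Γ(X, W0)) (hW0 : ∀ U : Y.Opens, f ⁻¹ᵁ U ≤ W0)

noncomputable def glueData := Scheme.AffineZariskiSite.relativeGluingData (coequifibered f I n s hW0)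

instance : ((glueData f I n s hW0).functor ⋙ Scheme.forget).IsLocallyDirected :=
  Scheme.Cover.RelativeGluingData.instIsLocallyDirectedI₀CompFunctorForgetOfIsThin ..

/-- The model. -/
noncomputable def model : Scheme.{u} := (glueData f I n s hW0).glued

noncomputable def modelMap : model f I n s hW0 ⟶ Y := (glueData f I n s hW0).toBase

/-- The chart of the model over an affine open. -/
noncomputable def modelι (U : Y.affineOpens) :
    Spec (.of (adj f I n s hW0 U)) ⟶ model f I n s hW0 :=
  (glueData f I n s hW0).cover.f U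

instance (U : Y.affineOpens) : IsOpenImmersion (modelι f I n s hW0 U) :=
  (glueData f I n s hW0).cover.map_prop _

theorem modelι_map (U : Y.affineOpens) :
    modelι f I n s hW0 U ≫ modelMap f I n s hW0 =
      Spec.map ((diagramMap f I n s hW0).app (.op ⟨U.1, U.2⟩)) ≫ U.2.fromSpec :=
  colimit.ι_desc _ _

theorem modelMap_preimage (U : Y.affineOpens) :
    modelMap f I n s hW0 ⁻¹ᵁ U.1 = (modelι f I n s hW0 U).opensRange := by
  simpa using! (glueData f I n s hW0).toBase_preimage_eq_opensRange_ι U

theorem isFinite_modelMap {ι : Type u} (U : ι → Y.affineOpens) (hU : ⨆ i, (U i).1 = ⊤)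
    (h : ∀ i, ((diagramMap f I n s hW0).app (.op ⟨(U i).1, (U i).2⟩)).hom.Finite) :
    IsFinite (modelMap f I n s hW0) := by
  rw [IsZariskiLocalAtTarget.iff_of_iSup_eq_top (P := @IsFinite) _ hU]
  intro i
  let e := IsOpenImmersion.isoOfRangeEq (modelMap f I n s hW0 ⁻¹ᵁ (U i).1).ι (modelι f I n s hW0 (U i))
    (by simpa using congr($(modelMap_preimage f I n s hW0 (U i)).1))
  rw [← MorphismProperty.cancel_left_of_respectsIso @IsFinite e.inv,
    ← MorphismProperty.cancel_right_of_respectsIso @IsFinite _ (U i).2.isoSpec.hom]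
  convert! (IsFinite.SpecMap_iff _).mpr (h i)
  rw [← cancel_mono (U i).2.fromSpec]
  simp [IsAffineOpen.isoSpec_hom, e]
  exact modelι_map f I n s hW0 (U i)

theorem finite_diagramMap (U : Y.affineOpens) [IsLocallyNoetherian Y]
    (h : ∀ x ∈ gens f I n s hW0 U, (f.app U.1).hom.IsIntegralElem x) :
    ((diagramMap f I n s hW0).app (.op ⟨U.1, U.2⟩)).hom.Finite := by
  letI := (f.app U.1).hom.toAlgebra
  haveI : IsNoetherianRing Γ(Y, U.1) := IsLocallyNoetherian.component_noetherian U
  obtain ⟨t, ht⟩ := IsNoetherian.noetherian ((I.ideal U) ^ n)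
  let G : Set Γ(X, f ⁻¹ᵁ U.1) :=
    Set.image2 (fun i c => f.app U.1 i * X.presheaf.map (homOfLE (hW0 U.1)).op c) ↑t ↑s
  have hG : G ⊆ gens f I n s hW0 U := by
    rintro _ ⟨i, hi, c, hc, rfl⟩
    exact ⟨i, ht ▸ Submodule.subset_span hi, c, hc, rfl⟩
  have heq : adj f I n s hW0 U = Algebra.adjoin Γ(Y, U.1) G := by
    refine le_antisymm (Algebra.adjoin_le ?_) (Algebra.adjoin_mono hG)
    rintro _ ⟨i, hi, c, hc, rfl⟩
    rw [← ht] at hi
    induction hi using Submodule.span_induction with
    | mem i hi => exact Algebra.subset_adjoin ⟨i, hi, c, hc, rfl⟩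
    | zero => rw [map_zero, zero_mul]; exact zero_mem _
    | add a b _ _ ha hb => rw [map_add, add_mul]; exact add_mem ha hb
    | smul r a _ ha => rw [smul_eq_mul, map_mul, mul_assoc]; exact mul_mem (Subalgebra.algebraMap_mem _ r) ha
  have hfin : Module.Finite Γ(Y, U.1) (adj f I n s hW0 U) := by
    rw [heq]
    exact Module.Finite.iff_fg.2 (fg_adjoin_of_finite (t.finite_toSet.image2 _ s.finite_toSet) fun x hx => h x (hG hx))
  exact hfin

end Groth.Agent.FinExtend
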