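import Groth.Agent.FinExtend.Glue

set_option autoImplicit false
set_option backward.isDefEq.respectTransparency false
set_option backward.defeqAttrib.useBackward true
universe u

open CategoryTheory CategoryTheory.Limits AlgebraicGeometry TopologicalSpace Opposite Polynomial

namespace Groth.Agent.FinExtend

theorem isIntegralElem_mul {X Y : Scheme.{u}} (f : X ⟶ Y) {W0 : X.Opens} (hW0 : ∀ U : Y.Opens, f ⁻¹ᵁ U ≤ W0)
    (U : Y.Opens) (W : Y.Opens) (hWU : W ≤ U) (hW : f ⁻¹ᵁ U ≤ f ⁻¹ᵁ W) (c : Γ(X, W0)) (P : Polynomial Γ(Y, W))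
    (hP : P.Monic) (hc : P.eval₂ (f.appLE W (f ⁻¹ᵁ U) hW).hom (X.presheaf.map (homOfLE (hW0 U)).op c) = 0)
    (i : Γ(Y, U)) (hi : ∀ k, Y.presheaf.map (homOfLE hWU).op i * P.coeff k ∈ (Y.presheaf.map (homOfLE hWU).op).hom.range) :
    (f.app U).hom.IsIntegralElem (f.app U i * X.presheaf.map (homOfLE (hW0 U)).op c) := by
  let ρ := (Y.presheaf.map (homOfLE hWU).op).hom
  have hcomp : (f.appLE W (f ⁻¹ᵁ U) hW).hom.comp ρ = (f.app U).hom := by
    rw [← CommRingCat.hom_comp, Scheme.Hom.map_appLE, Scheme.Hom.app_eq_appLE]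
  have hlift : P.scaleRoots (ρ i) ∈ Polynomial.lifts ρ := by
    rw [Polynomial.lifts_iff_coeff_lifts]
    intro k
    rw [Polynomial.coeff_scaleRoots]
    rcases lt_or_ge k P.natDegree with hk | hk
    · obtain ⟨m, hm⟩ := Nat.exists_eq_succ_of_ne_zero (show P.natDegree - k ≠ 0 by omega)
      rw [hm, pow_succ, ← mul_assoc, mul_comm (P.coeff k), mul_assoc, mul_comm (P.coeff k)]
      exact mul_mem (pow_mem (⟨i, rfl⟩ : ρ i ∈ ρ.range) m) (hi k)
    · rcases hk.eq_or_lt with rfl | hk'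
      · exact ⟨1, by simp [hP.coeff_natDegree]⟩
      · exact ⟨0, by simp [Polynomial.coeff_eq_zero_of_natDegree_lt hk']⟩
  obtain ⟨Q, hQ, -, hQm⟩ := Polynomial.lifts_and_natDegree_eq_and_monic hlift ((Polynomial.monic_scaleRoots_iff _).2 hP)
  refine ⟨Q, hQm, ?_⟩
  rw [show f.app U i = (f.appLE W (f ⁻¹ᵁ U) hW).hom (ρ i) from congr($hcomp i).symm, ← hcomp,
    ← Polynomial.eval₂_map, hQ]
  exact Polynomial.scaleRoots_eval₂_eq_zero _ hc

theorem exists_finite_extension {V Y : Scheme.{u}} [IsNoetherian Y] (Y0 : Y.Opens) (hY0 : IsAffineOpen Y0)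
    (p : V ⟶ Y0.toScheme) [IsFinite p] :
    ∃ (Y' : Scheme.{u}) (g : Y' ⟶ Y) (ι : V ⟶ Y'), IsFinite g ∧ IsOpenImmersion ι ∧ ι ≫ g = p ≫ Y0.ι := by
  set f := p ≫ Y0.ι with hf
  haveI : IsAffine Y0.toScheme := hY0
  haveI : IsAffine V := isAffine_of_isAffineHom p
  haveI : IsLocallyNoetherian V := LocallyOfFiniteType.isLocallyNoetherian p
  haveI : QuasiCompact f := inferInstance
  haveI : QuasiSeparated f := inferInstance
  have hpre : f ⁻¹ᵁ Y0 = ⊤ := by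
    rw [hf, Scheme.Hom.comp_preimage, Scheme.Opens.ι_preimage_self]; rfl
  have hW0 : ∀ U : Y.Opens, f ⁻¹ᵁ U ≤ f ⁻¹ᵁ Y0 := fun U => hpre ▸ le_top
  haveI : IsAffine (f ⁻¹ᵁ Y0).toScheme := by rw [hpre]; exact isAffineOpen_top V
  have hfin : (f.app Y0).hom.Finite := by
    haveI : IsIso (Y0.ι.app Y0) := Scheme.Hom.isIso_app _ _ (by simp)
    rw [hf, Scheme.Hom.comp_app, CommRingCat.hom_comp]
    exact (IsFinite.finite_app p _ (by rw [Scheme.Opens.ι_preimage_self]; exact isAffineOpen_top _)).comp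
      (RingHom.Finite.of_surjective _ (ConcreteCategory.bijective_of_isIso _).2)
  letI := (f.app Y0).hom.toAlgebra
  haveI : Module.Finite Γ(Y, Y0) Γ(V, f ⁻¹ᵁ Y0) := hfin
  obtain ⟨s, hs⟩ := Module.Finite.fg_top (R := Γ(Y, Y0)) (M := Γ(V, f ⁻¹ᵁ Y0))
  let Z : Closeds Y := ⟨(Y0 : Set Y)ᶜ, Y0.2.isClosed_compl⟩
  let I := Scheme.IdealSheafData.vanishingIdeal Z
  have hD : ∀ (U : Y.affineOpens), ∀ r ∈ I.ideal U, Y.basicOpen r ≤ U.1 ⊓ Y0 := by
    intro U r hr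
    refine le_inf (Y.basicOpen_le r) fun x hx => ?_
    by_contra hxY
    have h1 := (Scheme.IdealSheafData.mem_support_iff_of_mem (I := I) (Y.basicOpen_le r hx)).1 hxY
    exact (Y.mem_zeroLocus_iff _ _).1 h1 r hr hx
  have hI0 : I.ideal ⟨Y0, hY0⟩ = ⊤ := by
    simp only [I, Scheme.IdealSheafData.vanishingIdeal_ideal]
    rw [show hY0.fromSpec ⁻¹' (Z : Set Y) = ∅ from Set.eq_empty_iff_forall_notMem.2 fun x hx =>
      hx (hY0.range_fromSpec.subset ⟨x, rfl⟩), PrimeSpectrum.vanishingIdeal_empty]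
  obtain ⟨S, hSU⟩ := CompactSpace.elim_nhds_subcover (fun x => ((exists_isAffineOpen_mem_and_subset
      (TopologicalSpace.Opens.mem_top x)).choose : Set Y)) (fun x =>
    (exists_isAffineOpen_mem_and_subset (TopologicalSpace.Opens.mem_top x)).choose.2.mem_nhds
      (exists_isAffineOpen_mem_and_subset (TopologicalSpace.Opens.mem_top x)).choose_spec.2.1)
  let U : {x // x ∈ S} → Y.affineOpens := fun x => ⟨_, (exists_isAffineOpen_mem_and_subset
      (TopologicalSpace.Opens.mem_top x.1)).choose_spec.1⟩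
  have hint : ∀ c : Γ(V, f ⁻¹ᵁ Y0), ∃ P : Polynomial Γ(Y, Y0), P.Monic ∧ P.eval₂ (f.app Y0).hom c = 0 :=
    fun c => hfin.to_isIntegral c
  choose P hPm hP0 using hint
  let A : {x // x ∈ S} × {c // c ∈ s} → Polynomial Γ(Y, Y0) := fun q => P q.2.1
  have hN : ∀ (x : {x // x ∈ S}) (a : Γ(Y, Y0)), ∃ m, ∀ i ∈ (I.ideal (U x)) ^ m,
      Y.presheaf.map (homOfLE inf_le_left).op i * Y.presheaf.map (homOfLE inf_le_right).op a ∈
        (Y.presheaf.map (homOfLE (inf_le_left : (U x).1 ⊓ Y0 ≤ (U x).1)).op).hom.range :=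
    fun x a => exists_pow_ideal_res I (U x) _ inf_le_left (hD _) _
  choose N hN using hN
  let n := Finset.univ.sup fun x : {x // x ∈ S} => s.sup fun c => (P c).support.sup fun k => N x ((P c).coeff k)
  have hfinU : ∀ x, ((diagramMap f I n s hW0).app (.op ⟨(U x).1, (U x).2⟩)).hom.Finite := fun x => by
    refine finite_diagramMap f I n s hW0 (U x) ?_
    rintro _ ⟨i, hi, c, hc, rfl⟩
    let W := (U x).1 ⊓ Y0
    have hW : f ⁻¹ᵁ (U x).1 ≤ f ⁻¹ᵁ W := by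
      rw [Scheme.Hom.preimage_inf]; exact le_inf le_rfl (hW0 _)
    refine isIntegralElem_mul f hW0 _ W inf_le_left hW c ((P c).map (Y.presheaf.map (homOfLE inf_le_right).op).hom)
      ((hPm c).map _) ?_ i fun k => ?_
    · have hc' : (f.appLE W (f ⁻¹ᵁ (U x).1) hW).hom.comp (Y.presheaf.map (homOfLE inf_le_right).op).hom =
          (V.presheaf.map (homOfLE (hW0 (U x).1)).op).hom.comp (f.app Y0).hom := by
        rw [← CommRingCat.hom_comp, ← CommRingCat.hom_comp, Scheme.Hom.map_appLE, Scheme.Hom.app_eq_appLE,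
          Scheme.Hom.appLE_map]
      rw [Polynomial.eval₂_map, hc', ← Polynomial.hom_eval₂, hP0, map_zero]
    · rw [Polynomial.coeff_map]
      by_cases hk : k ∈ (P c).support
      · refine hN x _ i (Ideal.pow_le_pow_right ?_ hi)
        exact le_trans (Finset.le_sup (f := fun k => N x ((P c).coeff k)) hk)
          (le_trans (Finset.le_sup (f := fun c => (P c).support.sup fun k => N x ((P c).coeff k)) hc)
            (Finset.le_sup (f := fun x : {x // x ∈ S} => s.sup fun c => (P c).support.sup fun k => N x ((P c).coeff k))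
              (Finset.mem_univ x)))
      · rw [Polynomial.notMem_support_iff.1 hk, map_zero, mul_zero]; exact zero_mem _
  have hUtop : ⨆ x, (U x).1 = ⊤ := by
    rw [eq_top_iff]
    intro x _
    obtain ⟨y, hy, hxy⟩ := Set.mem_iUnion₂.1 (hSU.ge (Set.mem_univ x))
    exact Opens.mem_iSup.2 ⟨⟨y, hy⟩, hxy⟩
  have htop : adj f I n s hW0 ⟨Y0, hY0⟩ = ⊤ := by
    refine top_le_iff.1 fun x _ => ?_
    have hx : x ∈ Submodule.span Γ(Y, Y0) (s : Set Γ(V, f ⁻¹ᵁ Y0)) := hs ▸ trivial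
    refine Algebra.span_le_adjoin _ _ (Submodule.span_mono (fun c hc => ?_) hx)
    refine ⟨1, ?_, c, hc, ?_⟩
    · rw [hI0, Ideal.top_pow]; trivial
    · simp
  let e : CommRingCat.of (adj f I n s hW0 ⟨Y0, hY0⟩) ⟶ Γ(V, f ⁻¹ᵁ Y0) :=
    CommRingCat.ofHom (adj f I n s hW0 ⟨Y0, hY0⟩).val.toRingHom
  haveI : IsIso e := (ConcreteCategory.isIso_iff_bijective e).2
    ⟨Subtype.val_injective, fun x => ⟨⟨x, htop ▸ Algebra.mem_top⟩, rfl⟩⟩
  haveI : IsIso (f ⁻¹ᵁ Y0).ι := by rw [hpre]; exact (V.topIso.isIso_hom : IsIso V.topIso.hom)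
  refine ⟨model f I n s hW0, modelMap f I n s hW0,
    inv (f ⁻¹ᵁ Y0).ι ≫ (f ⁻¹ᵁ Y0).toSpecΓ ≫ Spec.map e ≫ modelι f I n s hW0 ⟨Y0, hY0⟩,
    isFinite_modelMap f I n s hW0 U hUtop hfinU, ?_, ?_⟩
  · have hA : IsAffineOpen (f ⁻¹ᵁ Y0) := hpre ▸ isAffineOpen_top V
    haveI : IsIso (f ⁻¹ᵁ Y0).toSpecΓ := hA.isoSpec.isIso_hom
    haveI : IsOpenImmersion (modelι f I n s hW0 ⟨Y0, hY0⟩) := inferInstance
    haveI : IsOpenImmersion (Spec.map e ≫ modelι f I n s hW0 ⟨Y0, hY0⟩) := IsOpenImmersion.comp _ _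
    haveI : IsOpenImmersion ((f ⁻¹ᵁ Y0).toSpecΓ ≫ Spec.map e ≫ modelι f I n s hW0 ⟨Y0, hY0⟩) :=
      IsOpenImmersion.comp _ _
    exact IsOpenImmersion.comp _ _
  refine (Category.assoc _ _ _).trans ((IsIso.inv_comp_eq _).2 ?_)
  simp only [Category.assoc, modelι_map, ← Spec.map_comp_assoc]
  change (f ⁻¹ᵁ Y0).toSpecΓ ≫ Spec.map (f.app Y0) ≫ hY0.fromSpec = _
  simp

end Groth.Agent.FinExtend
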