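import Groth.Agent.FinExtend.Main

set_option autoImplicit false
set_option backward.isDefEq.respectTransparency false
set_option backward.defeqAttrib.useBackward true
universe u

open CategoryTheory CategoryTheory.Limits AlgebraicGeometry TopologicalSpace Opposite

namespace Groth.Agent.FinExtend

/-- Zariski's Main Theorem near a quasi-finite point over a Noetherian base. -/
theorem exists_openImmersion_finite {C Y : Scheme.{u}} [IsNoetherian Y] (h : C ⟶ Y) [LocallyOfFiniteType h]
    (c : C) (hc : h.QuasiFiniteAt c) :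
    ∃ (W : Scheme.{u}) (j : W ⟶ C) (Y' : Scheme.{u}) (g : Y' ⟶ Y) (ι : W ⟶ Y'),
      IsOpenImmersion j ∧ c ∈ Set.range j.base ∧ IsFinite g ∧ IsOpenImmersion ι ∧ ι ≫ g = j ≫ h := by
  obtain ⟨U, hU, hxU, -⟩ := exists_isAffineOpen_mem_and_subset (TopologicalSpace.Opens.mem_top (h.base c))
  obtain ⟨V, hV, hxV, hVU⟩ := exists_isAffineOpen_mem_and_subset (x := c) (U := h ⁻¹ᵁ U) hxU
  have hft : (h.appLE U V hVU).hom.FiniteType := h.finiteType_appLE hU hV hVU
  have hqf := hc.quasiFiniteAt hV hU hVU hxV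
  algebraize [(h.appLE U V hVU).hom]
  haveI : Algebra.QuasiFiniteAt Γ(Y, U) (hV.primeIdealOf ⟨c, hxV⟩).asIdeal := hqf
  obtain ⟨S', hS', r, hr, hbij⟩ :=
    Algebra.QuasiFiniteAt.exists_fg_and_exists_notMem_and_awayMap_bijective (R := Γ(Y, U))
      (hV.primeIdealOf ⟨c, hxV⟩).asIdeal
  haveI : Module.Finite Γ(Y, U) S' := Module.Finite.iff_fg.2 hS'
  haveI : IsFinite (Spec.map (CommRingCat.ofHom (algebraMap Γ(Y, U) S'))) :=
    (IsFinite.SpecMap_iff _).2 (RingHom.finite_algebraMap.2 ‹_›)
  haveI : IsFinite (Spec.map (CommRingCat.ofHom (algebraMap Γ(Y, U) S')) ≫ hU.isoSpec.inv) :=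
    MorphismProperty.comp_mem _ _ _ inferInstance inferInstance
  obtain ⟨Y', g, ι, hg, hι, hιg⟩ := exists_finite_extension U hU
    (Spec.map (CommRingCat.ofHom (algebraMap Γ(Y, U) S')) ≫ hU.isoSpec.inv)
  haveI := hg; haveI := hι
  let a : CommRingCat.of (Localization.Away r) ⟶ CommRingCat.of (Localization.Away (S'.val.toRingHom r)) :=
    CommRingCat.ofHom (Localization.awayMap S'.val.toRingHom r)
  haveI : IsIso a := (ConcreteCategory.isIso_iff_bijective a).2 hbij
  let w := CommRingCat.ofHom (algebraMap Γ(C, V) (Localization.Away (S'.val.toRingHom r)))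
  let w' := CommRingCat.ofHom (algebraMap S' (Localization.Away r))
  haveI : IsOpenImmersion (Spec.map w) := IsOpenImmersion.of_isLocalization (S'.val.toRingHom r)
  haveI : IsOpenImmersion (Spec.map w') := IsOpenImmersion.of_isLocalization r
  refine ⟨_, Spec.map w ≫ hV.fromSpec, Y', g, Spec.map a ≫ Spec.map w' ≫ ι, inferInstance, ?_, hg, inferInstance, ?_⟩
  · obtain ⟨q, hq⟩ : hV.primeIdealOf ⟨c, hxV⟩ ∈ Set.range (Spec.map w).base := by
      show _ ∈ Set.range (PrimeSpectrum.comap (algebraMap Γ(C, V) (Localization.Away (S'.val.toRingHom r))))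
      rw [PrimeSpectrum.localization_away_comap_range (Localization.Away (S'.val.toRingHom r)) (S'.val.toRingHom r)]
      exact hr
    exact ⟨q, by rw [Scheme.Hom.comp_apply, hq]; exact hV.fromSpec_primeIdealOf _⟩
  · rw [Category.assoc, Category.assoc, hιg]
    simp only [Category.assoc, IsAffineOpen.isoSpec_inv_ι]
    rw [← hU.SpecMap_appLE_fromSpec h hV hVU]
    simp only [← Spec.map_comp_assoc]
    congr 2
    ext x
    simp [a, w, w', Localization.awayMap, IsLocalization.Away.map, RingHom.algebraMap_toAlgebra]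

end Groth.Agent.FinExtend
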